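import Mathlib
import Cfsg.Agent.GsC.Alm
import Cfsg.Agent.Blk2.L2
import Cfsg.Agent.S2089
import Cfsg.Agent.Transfer.Focal

/-! Strongly closed abelian 2-subgroups: the local facts on one component. -/

set_option autoImplicit false
set_option linter.unusedSectionVars false

namespace Cfsg.Agent.GsD

open Subgroup Cfsg.Agent.GW Cfsg.Agent.LocalEven Cfsg.Agent.BG Cfsg.Agent.Gs
open scoped commutatorElement

universe u

variable {G : Type*} [Group G] [Finite G] {A L V T H : Subgroup G}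

/-- `A` is an abelian subgroup strongly closed in the Sylow 2-subgroup `T`. -/
structure SA (A T : Subgroup G) : Prop where
  syl : IsSylowIn 2 T ⊤
  le : A ≤ T
  cl : ∀ a ∈ A, ∀ g : G, g * a * g⁻¹ ∈ T → g * a * g⁻¹ ∈ A
  comm : ∀ a ∈ A, ∀ b ∈ A, a * b = b * a

theorem SA.conj (h : SA A T) {t a : G} (ht : t ∈ T) (ha : a ∈ A) : t * a * t⁻¹ ∈ A :=
  h.cl a ha t (mul_mem (mul_mem ht (h.le ha)) (inv_mem ht))

theorem SA.pow (h : SA A T) {a : G} (ha : a ∈ A) : ∃ k, a ^ 2 ^ k = 1 :=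
  isPGroup_iff_mem.1 h.syl.pgrp a (h.le ha)

theorem SA.map (h : SA A T) {X : Type*} [Group X] (f : G →* X) (hf : Function.Surjective f) :
    SA (A.map f) (T.map f) := by
  have hT' := h.syl.map f
  rw [map_top_of_surjective f hf] at hT'
  refine ⟨hT', map_mono h.le, ?_, ?_⟩
  · rintro - ⟨a, ha, rfl⟩ g hg
    obtain ⟨g, rfl⟩ := hf g
    have hm : g * a * g⁻¹ ∈ T ⊔ f.ker := by
      rw [← comap_map_eq]; simpa using hg
    obtain ⟨j, hj⟩ := h.pow ha
    obtain ⟨k, hk, hk'⟩ := (h.syl.mono le_sup_left le_top).exists_conj_mem hm (k := j)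
      (by rw [conj_pow, hj]; simp)
    have h1 := h.cl a ha (k * g) (by convert hk' using 1; group)
    obtain ⟨t, ht, n, hn, rfl⟩ := Subgroup.mem_sup_of_normal_right.1 hk
    refine ⟨_, h.conj (inv_mem ht) h1, ?_⟩
    have hn' : f n = 1 := hn
    simp only [map_mul, map_inv, hn']
    group
  · rintro - ⟨a, ha, rfl⟩ - ⟨b, hb, rfl⟩
    rw [← map_mul, h.comm a ha b hb, map_mul]

/-- The involutions of `A` together with the identity. -/
def SA.om (h : SA A T) : Subgroup G where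
  carrier := {x | x ∈ A ∧ x * x = 1}
  one_mem' := ⟨one_mem _, one_mul _⟩
  mul_mem' := by
    rintro a b ⟨h1, h2⟩ ⟨h3, h4⟩
    exact ⟨mul_mem h1 h3, by
      rw [mul_assoc, ← mul_assoc b, h.comm b h3 a h1, mul_assoc, h4, mul_one, h2]⟩
  inv_mem' := by
    rintro a ⟨h1, h2⟩
    exact ⟨inv_mem h1, by rw [← mul_inv_rev, h2, inv_one]⟩

theorem SA.om_le (h : SA A T) : h.om ≤ A := fun _ hx => hx.1

theorem SA.sc_om (h : SA A T) : SC h.om := by
  obtain ⟨S, rfl⟩ := h.syl.exists_sylow_top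
  exact sc_of_closed S ⟨fun _ hx => h.le hx.1, fun x hx g hg =>
    ⟨h.cl x hx.1 g hg, conj_sq hx.2 g⟩⟩ fun _ hx => hx.2

theorem SA.sc (h : SA A T) (hsq : ∀ a ∈ A, a * a = 1) : SC A := by
  obtain ⟨S, rfl⟩ := h.syl.exists_sylow_top
  exact sc_of_closed S ⟨h.le, h.cl⟩ hsq

theorem card_le_sq {Y : Subgroup G} (hc : ∀ a ∈ Y, ∀ b ∈ Y, a * b = b * a)
    (h1 : ∀ y ∈ Y, y * y ∈ V) (h2 : ∀ y ∈ Y, y * y = 1 → y ∈ V) : Nat.card Y ≤ Nat.card V ^ 2 := by
  let f : Y →* G :=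
    { toFun := fun y => y * y
      map_one' := by simp
      map_mul' := fun a b => by
        simp only [coe_mul]
        rw [mul_assoc, ← mul_assoc (b : G), hc b b.2 a a.2]; simp only [mul_assoc] }
  rw [card_eq_card_quotient_mul_card_subgroup f.ker, sq,
    Nat.card_congr (QuotientGroup.quotientKerEquivRange f).toEquiv]
  refine Nat.mul_le_mul (card_le_of_le ?_) ?_
  · rintro - ⟨y, rfl⟩; exact h1 y y.2
  · rw [← card_map_of_injective Y.subtype_injective]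
    refine card_le_of_le ?_
    rintro - ⟨y, hy, rfl⟩; exact h2 y y.2 hy

/-- An abelian strongly closed subgroup of an almost simple group is elementary. -/
theorem SA.le_of_gp (hA : SA A T) (h : GP L V) (hV : V ≤ A) : A ≤ V := fun s hs => by
  obtain ⟨k, hk⟩ := hA.pow hs
  have hc : s ∈ 𝐂(V) := mem_centralizer_iff.2 fun v hv => hA.comm v (hV hv) s hs
  by_cases hE : SE L
  swap
  · exact h.two_inner (h.syl hE) h.sc.le_cent hk hc
  obtain ⟨H, hB⟩ := h.exists_BD hE (hA.syl.inf_of_le_normalizer le_top fun g _ => h.norm g)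
    (le_inf (hV.trans hA.le) h.le)
  have h1 : V ≤ A ⊓ (T ⊓ L) := le_inf hV hB.le
  have h2 : ∀ t ∈ A ⊓ (T ⊓ L), ∀ x ∈ H, x * t * x⁻¹ ∈ A ⊓ (T ⊓ L) := fun t ht x hx =>
    have k := conj_mem_of_mem_normalizer (hB.H_le hx).2 ht.2
    ⟨hA.cl t ht.1 x k.1, k⟩
  have hY : A ⊓ (T ⊓ L) ≤ V := by
    rcases hB.cases with e | ⟨e, ⟨hc, -⟩ | ⟨-, y, hy, hf, -⟩⟩
    · exact inf_le_right.trans e.le
    · rcases hB.sz_irr hc h1 inf_le_right
        (fun x hx => mem_normalizer_fintype fun t ht => h2 t ht x hx) with e' | e'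
      · exact e'.le
      · have : V = ⊥ := by
          rw [← e, eq_bot_iff, Subgroup.commutator_le]
          intro a ha b hb
          rw [mem_bot, commutatorElement_eq_one_iff_mul_comm]
          exact hA.comm a (e'.ge ha).1 b (e'.ge hb).1
        exact absurd this h.ne
    · intro t ht
      by_contra htV
      have := GsC.BD_large hB hy hf (Y := (A ⊓ (T ⊓ L) : Subgroup G)) (fun _ h => h.2)
        (fun t ht v hv => Subgroup.mul_mem _ ht (h1 hv)) h2 ht htV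
      exact absurd (card_le_sq (Y := A ⊓ (T ⊓ L)) (fun a ha b hb => hA.comm a ha.1 b hb.1)
        (fun y hy => hB.sq_mem y hy.2) fun y hy => hB.omega y hy.2) (not_le.2 this)
  have hn : s ∈ 𝐍(T ⊓ L) := le_normalizer_inf (L := T) le_normalizer (fun g _ => h.norm g) (hA.le hs)
  refine hY ⟨hs, hB.stab s ⟨hn, hc⟩ fun t ht => hY ⟨?_, ?_⟩⟩
  · have := mul_mem hs (hA.conj ht.1 (inv_mem hs))
    show s * t * s⁻¹ * t⁻¹ ∈ A
    simpa only [mul_assoc] using this
  · exact Subgroup.mul_mem _ (conj_mem_of_mem_normalizer hn ht) (inv_mem ht)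

theorem exists_three (h5 : 5 ≤ V.relIndex T) (hn : T ≤ 𝐍(V)) (hsq : ∀ t ∈ T, t * t ∈ V) :
    ∃ u ∈ T, ∃ v ∈ T, ∃ w ∈ T, u ∉ V ∧ v ∉ V ∧ w ∉ V ∧ u * v ∉ V ∧ u * w ∉ V ∧ v * w ∉ V ∧
      u * (v * w) ∉ V := by
  classical
  haveI : (V.subgroupOf T).Normal := normal_subgroupOf_of_le_normalizer hn
  haveI := Fintype.ofFinite (T ⧸ V.subgroupOf T)
  let f := QuotientGroup.mk' (V.subgroupOf T)
  have hf : ∀ t : T, f t = 1 ↔ (t : G) ∈ V := fun t => QuotientGroup.eq_one_iff t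
  have h2 : ∀ x : T ⧸ V.subgroupOf T, x⁻¹ = x := fun x => by
    obtain ⟨t, rfl⟩ := QuotientGroup.mk'_surjective _ x
    rw [inv_eq_iff_mul_eq_one, ← map_mul]
    exact (hf _).2 (hsq t t.2)
  have k : ∀ s : Finset (T ⧸ V.subgroupOf T), s.card ≤ 4 → ∃ t : T, f t ∉ s := fun s hs => by
    obtain ⟨x, -, hx⟩ := Finset.exists_mem_notMem_of_card_lt_card (s := s) (t := Finset.univ) (by
      rw [Finset.card_univ, ← Nat.card_eq_fintype_card]
      exact lt_of_le_of_lt hs h5)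
    obtain ⟨t, rfl⟩ := QuotientGroup.mk'_surjective _ x
    exact ⟨t, hx⟩
  obtain ⟨u, hu⟩ := k {1} (by simp)
  obtain ⟨v, hv⟩ := k {1, f u} (Finset.card_le_two.trans (by norm_num))
  obtain ⟨w, hw⟩ := k {1, f u, f v, f u * f v} Finset.card_le_four
  simp only [Finset.mem_insert, Finset.mem_singleton, not_or] at hu hv hw
  refine ⟨u, u.2, v, v.2, w, w.2, fun e => hu ((hf _).2 e), fun e => hv.1 ((hf _).2 e),
    fun e => hw.1 ((hf _).2 e), fun e => hv.2 ?_, fun e => hw.2.1 ?_, fun e => hw.2.2.1 ?_,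
    fun e => hw.2.2.2 ?_⟩
  · have := (hf (u * v)).2 e
    rw [map_mul, mul_eq_one_iff_inv_eq, h2] at this; exact this.symm
  · have := (hf (u * w)).2 e
    rw [map_mul, mul_eq_one_iff_inv_eq, h2] at this; exact this.symm
  · have := (hf (v * w)).2 e
    rw [map_mul, mul_eq_one_iff_inv_eq, h2] at this; exact this.symm
  · have := (hf (u * (v * w))).2 e
    rw [← mul_assoc, map_mul, map_mul, mul_eq_one_iff_inv_eq, h2] at this; exact this.symm

theorem mem_comm_of_cent (hp : ⁅L, L⁆ = L) (hT : IsSylowIn 2 T L) {z : G} (hz : z ∈ T)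
    (hc : z ∈ 𝐂(L)) : z ∈ ⁅T, T⁆ := by
  have h1 := Transfer.inf_commutator_inf_center_le hT.toSylow.card_coprime_index
    (x := ⟨z, hT.le hz⟩) ⟨⟨hz, by
      rw [_root_.commutator, ← subgroupOf_self, ← QuoApi.subgroupOf_commutator le_rfl le_rfl, hp]
      exact hT.le hz⟩, mem_center_iff.2 fun g => Subtype.ext (mem_centralizer_iff.1 hc g g.2)⟩
  have h2 := mem_map_of_mem L.subtype h1
  rwa [map_commutator, hT.map_toSylow] at h2

theorem quat_contra {X : Type*} [Group X] {c u v w : X} (hc : ∀ x, x * c = c * x) (c2 : c * c = 1)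
    (h1 : u * u = c) (h2 : v * v = c) (h3 : w * w = c) (h4 : u * v * (u * v) = c)
    (h5 : u * w * (u * w) = c) (h6 : v * w * (v * w) = c)
    (h7 : u * (v * w) * (u * (v * w)) = c) : c = 1 := by
  have k : ∀ x y : X, x * x = c → y * y = c → x * y * (x * y) = c → x * y = c * (y * x) := by
    intro x y a b d
    have e : y * x * y = x := mul_left_cancel (a := x) (by rw [a, ← d]; simp only [mul_assoc])
    rw [← hc, ← b, ← mul_assoc, e]
  have a1 := k u v h1 h2 h4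
  have a2 := k u w h1 h3 h5
  have a3 := k u (v * w) h1 h6 h7
  have a4 : u * (v * w) = v * w * u := by
    rw [← mul_assoc, a1, mul_assoc, mul_assoc, a2, ← mul_assoc v, hc v, mul_assoc, ← mul_assoc c, c2,
      one_mul, mul_assoc]
  rw [a4] at a3
  exact (mul_right_cancel (a3.symm.trans (one_mul _).symm))

theorem u3e_of_y [IsSimpleGroup G] (hS : SE G) {y v : G} (hy : Odd (orderOf y)) (y1 : y ≠ 1)
    (hv : orderOf v = 2) (hc : Commute y v) : GsC.U3E G := by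
  have ho : orderOf (y * v) = orderOf y * 2 := by
    rw [hc.orderOf_mul_eq_mul_orderOf_of_coprime (by rw [hv]; exact Nat.coprime_two_right.2 hy), hv]
  have k1 : ¬ Odd (orderOf (y * v)) := by rw [ho]; simp
  have k2 : ¬ orderOf (y * v) ∣ 4 := fun e => y1 (orderOf_eq_one_iff.1 (by
    rw [ho] at e
    exact Nat.Coprime.eq_one_of_dvd ((Nat.coprime_two_right.2 hy).pow_right 2)
      ((dvd_mul_right _ _).trans e)))
  rcases GsC.se_cases hS with h | ⟨F, _, _, m, hm, hF, ⟨e⟩⟩ | h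
  · refine absurd (Blk2.l2e_order h (y * v)) (not_or.2 ⟨fun e => k2 ?_, k1⟩)
    exact (orderOf_dvd_of_pow_eq_one (by rw [sq, e])).trans (by norm_num : 2 ∣ 4)
  · have := CIT.F.order_sz hm hF (e (y * v))
    rw [e.orderOf_eq] at this
    have a : Even (2 ^ (2 * m + 1)) := Nat.even_pow.2 ⟨even_two, by omega⟩
    have b : Even (2 ^ (m + 1)) := Nat.even_pow.2 ⟨even_two, by omega⟩
    rcases this with k | k | k | k
    · exact absurd k k2
    · exact absurd ((Blk2.odd_pow_sub (by omega)).of_dvd_nat k) k1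
    · exact absurd ((a.add b).add_one.of_dvd_nat k) k1
    · exact absurd (((Nat.even_sub (Nat.pow_le_pow_right (by norm_num) (by omega))).2
        (iff_of_true a b)).add_one.of_dvd_nat k) k1
  · exact h

theorem odd_ker_of_u3e {X : Type*} [Group X] (h : GsC.U3E X) {f : G →* X} (hf : IsStemExtension f) :
    Odd (Nat.card f.ker) := by
  obtain ⟨n, F, _, _, hn, hF, ⟨e⟩⟩ := h
  have h1 := S2089.result (F := F) 3 (2 ^ n) (by rw [hF, GsC.four_pow]) le_rfl
    (fun h => by have := Nat.pow_le_pow_right (n := 2) (by norm_num) hn; omega) (by simp)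
  obtain ⟨π, hπ⟩ := H2.Schur.has_ker (H2.Schur.has_congr h1 e.symm (.refl _)) hf
  refine Odd.of_dvd_nat ?_ (card_dvd_of_surjective π hπ)
  rw [Nat.card_congr Multiplicative.toAdd, Nat.card_zmod]
  exact (by decide : Odd 3).of_dvd_nat (Nat.gcd_dvd_left _ _)

section
variable {G : Type u} [Group G] [Finite G] {A L : Subgroup G}

theorem cent_of_Cent (hO : oOf L = ⊥) {z : G} (hz : z ∈ Cent L) : z ∈ 𝐂(L) :=
  mem_centralizer_iff.2 fun l hl => by
    have := hz.2 l hl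
    rw [hO, mem_bot, mul_inv_eq_one, mul_inv_eq_iff_eq_mul] at this
    exact this.symm

theorem rad_sz (h : Ctx A ⊤) (hL : Cp A ⊤ L) (hO : oOf L = ⊥) (hZ : A ⊓ L ⊓ Cent L = ⊥)
    {T : Subgroup G} (hT : IsSylowIn 2 T L) (hTA : T ≤ 𝐍(A)) (hAT : A ⊓ L ≤ T) {H : Subgroup (Gam L)}
    (hB : BD (im L L) (im L A) (im L T) H) (hc : Nat.card (im L T) = Nat.card (im L A) ^ 2)
    (h4 : Nat.card (im L A) ≠ 4) : L ⊓ Cent L = ⊥ := by
  by_contra h0
  have nT : T ≤ 𝐍(L) := hT.le.trans le_normalizer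
  have nA : A ⊓ L ≤ 𝐍(L) := inf_le_right.trans le_normalizer
  have hcz : L ⊓ Cent L ≤ 𝐂(L) := fun z hz => cent_of_Cent hO hz.2
  have hp : IsPGroup 2 (L ⊓ Cent L : Subgroup G) := isPGroup_iff_mem.2 fun x hx => by
    obtain ⟨s, -, o, ho, ⟨j, hj⟩, h3, rfl⟩ := exists_two_odd x
    have := hL.pc.mem_oOf_of_odd (zpowers_le.2 hx ho) h3
    rw [hO, mem_bot] at this
    exact ⟨j, by rw [this, mul_one, hj]⟩
  have hZT : L ⊓ Cent L ≤ T := hT.le_of_le_normalizer inf_le_left hp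
    ((hT.le.trans (le_cent_comm.1 hcz)).trans (cent_le_norm' _))
  obtain ⟨n, hn⟩ := hp.exists_card_eq
  obtain ⟨n, rfl⟩ : ∃ m, n = m + 1 := Nat.exists_eq_succ_of_ne_zero fun e => h0 (by
    rw [e] at hn; exact card_eq_one.1 hn)
  obtain ⟨Y, hY, hYc⟩ : ∃ Y ≤ L ⊓ Cent L, Nat.card Y = 2 ^ n := by
    obtain ⟨Y, hY⟩ := Sylow.exists_subgroup_card_pow_prime_of_le_card (n := n) Nat.prime_two hp
      (hn ▸ Nat.pow_le_pow_right (by norm_num) (Nat.le_succ n))
    exact ⟨_, map_subtype_le Y, (card_map_of_injective (subtype_injective _)).trans hY⟩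
  have hi : (Y.subgroupOf (L ⊓ Cent L)).index = 2 := by
    have := (Y.subgroupOf (L ⊓ Cent L)).card_mul_index
    rw [Nat.card_congr (subgroupOfEquivOfLe hY).toEquiv, hYc, hn, pow_succ] at this
    exact Nat.eq_of_mul_eq_mul_left (by positivity) this
  obtain ⟨z, hz, hzY⟩ : ∃ z ∈ L ⊓ Cent L, z ∉ Y := by
    by_contra! k
    rw [subgroupOf_eq_top.2 k, index_top] at hi
    omega
  have y1 : ∀ c ∈ L ⊓ Cent L, c * c ∈ Y := fun c hc => mul_self_mem_of_index_two hi ⟨c, hc⟩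
  have y2 : ∀ c ∈ L ⊓ Cent L, c ∉ Y → c * z ∈ Y := fun c hc hcY =>
    (mul_mem_iff_of_index_two hi (a := ⟨c, hc⟩) (b := ⟨z, hz⟩)).2 (iff_of_false hcY hzY)
  have cA : ∀ t ∈ T, ∀ a ∈ A ⊓ L, a * t = t * a := fun t ht a ha => by
    have h1 := (pr_mem_cz_iff (nA ha) (nT ht)).1 (cent_le_cz (pr_mem_im ha.1 (nA ha))
      (hB.central (pr_mem_im ht (nT ht))))
    have h2 : t * a * t⁻¹ * a⁻¹ ∈ A ⊓ L ⊓ Cent L :=
      ⟨⟨A.mul_mem (conj_mem_of_mem_normalizer (hTA ht) ha.1) (A.inv_mem ha.1),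
        L.mul_mem (L.mul_mem (L.mul_mem (hT.le ht) ha.2) (L.inv_mem (hT.le ht))) (L.inv_mem ha.2)⟩, h1⟩
    rw [hZ, mem_bot, mul_inv_eq_one, mul_inv_eq_iff_eq_mul] at h2
    exact h2.symm
  have cZ : ∀ l ∈ L, ∀ c ∈ L ⊓ Cent L, l * c = c * l := fun l hl c hc =>
    mem_centralizer_iff.1 (hcz hc) l hl
  have hN : ∀ x ∈ L ⊓ 𝐍(A), x ∈ 𝐍((A ⊓ L) ⊔ Y) := fun x hx =>
    normalizer_inf_normalizer_le_normalizer_sup _ _ ⟨le_normalizer_inf (L := L ⊓ 𝐍(A)) inf_le_right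
      (inf_le_left.trans le_normalizer) hx, cent_le_norm' _ (mem_centralizer_iff.2 fun c hc =>
        (cZ x hx.1 c (hY hc)).symm)⟩
  have hzN : z ∉ (A ⊓ L) ⊔ Y := fun k => by
    obtain ⟨a, ha, y, hy, e⟩ := (Core.mem_sup_of_le_normalizer (N := A ⊓ L)
      (fun c hc => cent_le_norm' _ (mem_centralizer_iff.2 fun a ha => cZ a ha.2 c (hY hc)))).1 k
    have : a ∈ A ⊓ L ⊓ Cent L := ⟨ha, by
      rw [eq_mul_inv_of_mul_eq e.symm]
      exact (Cent L).mul_mem hz.2 ((Cent L).inv_mem (hY hy).2)⟩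
    rw [hZ, mem_bot] at this
    rw [this, one_mul] at e
    exact hzY (e ▸ hy)
  have dec : ∀ t ∈ L, pr L t ∈ im L A → ∃ c ∈ L ⊓ Cent L, ∃ a ∈ A ⊓ L, t = c * a := fun t ht k => by
    rw [← h.im_inf hL] at k
    obtain ⟨a, ha, e⟩ := (mem_im' nA).1 k
    exact ⟨t * a⁻¹, ⟨L.mul_mem ht (L.inv_mem ha.2), (pr_eq_iff (le_normalizer ht) (nA ha)).1 e.symm⟩,
      a, ha, by group⟩
  have sqc : ∀ c ∈ L ⊓ Cent L, ∀ a ∈ A ⊓ L, ∀ t ∈ T, c * a * t * (c * a * t) = c * c * (t * t) :=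
    fun c hc a ha t ht => by
      have e1 := cZ t (hT.le ht) c hc
      have e2 := cZ a ha.2 c hc
      have e3 := cA t ht a ha
      calc c * a * t * (c * a * t) = c * (a * (t * c) * a) * t := by group
        _ = c * (c * (a * a) * t) * t := by
          rw [e1, ← mul_assoc a, e2, mul_assoc (c * a), ← e3]; group
        _ = _ := by rw [h.sc.sq a ha.1]; group
  by_cases hq : ∃ t ∈ T, pr L t ∉ im L A ∧ t * t ∈ (A ⊓ L) ⊔ Y
  · obtain ⟨t, ht, htV, ht2⟩ := hq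
    have all : ∀ s ∈ T, s * s ∈ (A ⊓ L) ⊔ Y := fun s hs => by
      by_cases hsV : pr L s ∈ im L A
      · obtain ⟨c, hc, a, ha, rfl⟩ := dec s (hT.le hs) hsV
        have := sqc c hc a ha 1 (one_mem _)
        simp only [mul_one] at this
        rw [this]
        exact mem_sup_right (y1 c hc)
      have m1 := pr_mem_im ht (nT ht)
      have m2 := pr_mem_im hs (nT hs)
      obtain ⟨x, hx, e⟩ := hB.trans _ (hB.sq_mem _ m1) _ (hB.sq_mem _ m2)
        (fun e => htV (hB.omega _ m1 e)) fun e => hsV (hB.omega _ m2 e)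
      have k := hB.sq_inj hc (conj_mem_of_mem_normalizer (hB.H_le hx).2 m1) m2 (by rw [← e]; group)
      have hx0 : x ∈ im L (L ⊓ 𝐍(A)) := h.im_norm hL ▸ ⟨(hB.H_le hx).1, hB.norm_le (hB.H_le hx).2⟩
      obtain ⟨x, hx', rfl⟩ := (mem_im' (inf_le_left.trans le_normalizer)).1 hx0
      have nx : x ∈ 𝐍(L) := le_normalizer hx'.1
      rw [← pr_conj nx (nT ht), ← pr_inv (nT hs), ← pr_mul (mul_mem (mul_mem nx (nT ht)) (inv_mem nx))
        (inv_mem (nT hs))] at k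
      obtain ⟨c, hc, a, ha, e'⟩ := dec _ (L.mul_mem (L.mul_mem (L.mul_mem hx'.1 (hT.le ht))
        (L.inv_mem hx'.1)) (L.inv_mem (hT.le hs))) k
      have e2 := sqc c hc a ha s hs
      rw [← e'] at e2
      have e3 : s * s = (c * c)⁻¹ * (x * (t * t) * x⁻¹) := by
        rw [eq_inv_mul_iff_mul_eq, ← e2]; group
      rw [e3]
      exact mul_mem (inv_mem (mem_sup_right (y1 c hc))) (conj_mem_of_mem_normalizer (hN x hx') ht2)
    refine hzN (Subgroup.commutator_le.2 (fun a ha b hb => ?_)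
      (mem_comm_of_cent hL.pc.perf hT (hZT hz) (hcz hz)))
    have := mul_mem (mul_mem (all a ha) (all _ (mul_mem (inv_mem ha) hb))) (all _ (inv_mem hb))
    convert this using 1
    rw [commutatorElement_def]; group
  push Not at hq
  have hTN : T ≤ 𝐍((A ⊓ L) ⊔ Y) := fun t ht => hN t ⟨hT.le ht, hTA ht⟩
  haveI : (((A ⊓ L) ⊔ Y).subgroupOf T).Normal := normal_subgroupOf_of_le_normalizer hTN
  let f := QuotientGroup.mk' (((A ⊓ L) ⊔ Y).subgroupOf T)
  have hf : ∀ t : T, f t = 1 ↔ (t : G) ∈ (A ⊓ L) ⊔ Y := fun t => QuotientGroup.eq_one_iff t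
  have c2 : f ⟨z, hZT hz⟩ * f ⟨z, hZT hz⟩ = 1 := by
    rw [← map_mul]; exact (hf _).2 (mem_sup_right (y1 z hz))
  have sq : ∀ t : T, pr L t ∉ im L A → f t * f t = f ⟨z, hZT hz⟩ := fun t k => by
    have m := hB.sq_mem _ (pr_mem_im t.2 (nT t.2))
    rw [← pr_mul (nT t.2) (nT t.2)] at m
    obtain ⟨c, hc, a, ha, e⟩ := dec _ (hT.le (mul_mem t.2 t.2)) m
    have hcY : c ∉ Y := fun k' => hq t t.2 k (e ▸ mul_mem (mem_sup_right k') (mem_sup_left ha))
    refine mul_right_cancel (b := f ⟨z, hZT hz⟩) ?_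
    rw [c2, ← map_mul, ← map_mul]
    refine (hf _).2 ?_
    show (t : G) * t * z ∈ _
    rw [e, mul_assoc, cZ a ha.2 z hz, ← mul_assoc]
    exact mul_mem (mem_sup_right (y2 c hc hcY)) (mem_sup_left ha)
  have h5 : 5 ≤ (im L A).relIndex (im L T) := by
    have := ((im L A).subgroupOf (im L T)).card_mul_index
    rw [Nat.card_congr (subgroupOfEquivOfLe hB.le).toEquiv, hc, _root_.sq] at this
    have h6 := hB.four
    rw [relIndex, Nat.eq_of_mul_eq_mul_left Nat.card_pos this]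
    omega
  obtain ⟨u, hu', v, hv', w, hw', k1, k2, k3, k4, k5, k6, k7⟩ :=
    exists_three h5 (hB.central.trans (cent_le_norm' _)) hB.sq_mem
  obtain ⟨u, hu, rfl⟩ := (mem_im' nT).1 hu'
  obtain ⟨v, hv, rfl⟩ := (mem_im' nT).1 hv'
  obtain ⟨w, hw, rfl⟩ := (mem_im' nT).1 hw'
  rw [← pr_mul (nT hv) (nT hw), ← pr_mul (nT hu) (nT (mul_mem hv hw))] at k7
  rw [← pr_mul (nT hv) (nT hw)] at k6
  rw [← pr_mul (nT hu) (nT hw)] at k5
  rw [← pr_mul (nT hu) (nT hv)] at k4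
  refine hzN ((hf ⟨z, hZT hz⟩).1 (quat_contra (u := f ⟨u, hu⟩) (v := f ⟨v, hv⟩) (w := f ⟨w, hw⟩)
    (fun x => ?_) c2 (sq _ k1) (sq _ k2) (sq _ k3) (by rw [← map_mul]; exact sq _ k4)
    (by rw [← map_mul]; exact sq _ k5) (by rw [← map_mul]; exact sq _ k6)
    (by rw [← map_mul, ← map_mul]; exact sq _ k7)))
  obtain ⟨x, rfl⟩ := QuotientGroup.mk'_surjective _ x
  rw [← map_mul, ← map_mul]
  exact congrArg f (Subtype.ext (cZ x (hT.le x.2) z hz))

/-- A component meeting the strongly closed subgroup trivially in its centre is simple. -/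
theorem rad_bot (h : Ctx A ⊤) (hL : Cp A ⊤ L) (hN : ∀ g, g ∈ 𝐍(L)) (hO : oOf L = ⊥)
    (hZ : A ⊓ L ⊓ Cent L = ⊥) : L ⊓ Cent L = ⊥ := by
  have hsyl : IsSylowIn 2 (im L A) (im L L) → L ⊓ Cent L = ⊥ := fun hS =>
    eq_bot_iff.2 (hO ▸ h.rad_le hL hS)
  have hg := h.gp hL
  by_cases hE : SE (im L L)
  swap
  · exact hsyl (hg.syl hE)
  obtain ⟨S, hS, hAS⟩ := exists_isSylowIn_le (H := ⊤) h.sc.pgroup le_top
  have hT : IsSylowIn 2 (S ⊓ L) L := hS.inf_of_le_normalizer le_top fun g _ => hN g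
  have hT' := sylow_im le_normalizer hT
  obtain ⟨H, hB⟩ := hg.exists_BD hE hT' (h.im_inf hL ▸ im_mono (inf_le_inf_right L hAS))
  rcases hB.cases with e | ⟨e, ⟨hc, h4⟩ | ⟨-, y, hy, hf, -⟩⟩
  · exact hsyl (e ▸ hT')
  · exact rad_sz h hL hO hZ hT (inf_le_left.trans (h.sc.norm_of_two hS.pgrp hAS))
      (inf_le_inf_right L hAS) hB hc h4
  haveI := hg.simple
  obtain ⟨v, hv, v1⟩ := Comp2.exists_mem_ne_one hg.ne
  have y1 : y ≠ 1 := fun k => hg.ne (by
    rw [← e]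
    exact Amb.le_cent_iff_comm_eq_bot.1 (hB.central.trans (cent_anti fun t ht => hf t ht (by
      rw [k]; simp))))
  have hU : GsC.U3E (im L L) := u3e_of_y hE (y := ⟨y, (hB.H_le hy.1).1⟩) (v := ⟨v, hg.le hv⟩)
    (by rw [orderOf_mk]; exact hB.odd.of_dvd_nat (Subgroup.orderOf_dvd_natCard _ hy.1))
    (fun k => y1 (congrArg Subtype.val k)) (by rw [orderOf_mk]; exact hg.sc.two hv v1)
    (Subtype.ext (mem_centralizer_iff.1 hy.2 v hv).symm)
  have ho := odd_ker_of_u3e hU (f := imHom (le_normalizer (H := L))) ⟨imHom_surj _, by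
    rw [imHom_ker]
    exact fun z hz => mem_center_iff.2 fun g => Subtype.ext
      (mem_centralizer_iff.1 (cent_of_Cent hO hz) g g.2), by
    rw [_root_.commutator, ← subgroupOf_self, ← QuoApi.subgroupOf_commutator le_rfl le_rfl,
      hL.pc.perf, subgroupOf_self]
    exact le_top⟩
  rw [imHom_ker, ← inf_subgroupOf_left, Nat.card_congr (subgroupOfEquivOfLe inf_le_left).toEquiv] at ho
  exact eq_bot_iff.2 (hO ▸ hL.pc.le_oOf_of_odd le_rfl ho)

end

end Cfsg.Agent.GsD
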