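import Mathlib
import Cfsg.Agent.GsD.SA

/-! Groups generated by the conjugates of a strongly closed abelian 2-subgroup. -/

set_option autoImplicit false
set_option linter.unusedSectionVars false

namespace Cfsg.Agent.GsD

open Subgroup Cfsg.Agent.GW Cfsg.Agent.LocalEven Cfsg.Agent.BG Cfsg.Agent.Gs
open scoped commutatorElement

universe u

variable {G : Type u} [Group G] [Finite G] {A B L T : Subgroup G}

theorem ctx_top (h : SC B) : Ctx B ⊤ := ⟨h, le_top, good_all _⟩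

theorem normal_of_norm (h : ∀ g, g ∈ 𝐍(L)) : L.Normal := normalizer_eq_top_iff.1 (eq_top_iff.2 fun g _ => h g)

theorem KK_normal (B : Subgroup G) : (KK B ⊤).Normal := normal_of_norm fun _ => le_norm_KK B ⊤ trivial

theorem mem_pCore_of_cent (h : SC B) (hO : oOf (⊤ : Subgroup G) = ⊥) {b : G} (hb : b ∈ B)
    (hc : ∀ L, Cp B ⊤ L → b ∈ Cent L) : b ∈ pCore 2 G := by
  haveI := KK_normal B
  refine Core.le_pCore (N := GsC.OZ (KK B ⊤)) ⟨fun x hx g => ⟨Normal.conj_mem inferInstance x hx.1 g,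
    Normal.conj_mem inferInstance x hx.2.1 g, conj_sq hx.2.2 g⟩⟩ (pgroup_of_sq fun e he => he.2.2)
    ⟨le_KK B ⊤ hb, mem_centralizer_iff.2 fun x hx => ?_, h.sq b hb⟩
  have := (ctx_top h).comm_mem_oOf hb hc hx
  rwa [hO, mem_bot, mul_inv_eq_one, mul_inv_eq_iff_eq_mul] at this

theorem cp_cj (h : SC B) (hL : Cp B ⊤ L) (g : G) : Cp B ⊤ (cj g L) := by
  obtain ⟨k, hk, n, hn, rfl⟩ := h.frattini (H := ⊤) le_top (mem_top g)
  have h1 := hL.cj_of_norm hn.2 (le_normalizer (mem_top n))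
  rw [cj_mul, cj_eq_of_mem_normalizer ((ctx_top h).KK_le_norm h1.pc hk)]
  exact h1

theorem norm_all (h : SC B) (hA : A ≤ 𝐂(B)) (hK : ∀ N : Subgroup G, N.Normal → A ≤ N → N = ⊤)
    (hL : Cp B ⊤ L) (g : G) : g ∈ 𝐍(L) := by
  have := hK (⨅ L : {L // Cp B ⊤ L}, 𝐍(L.1)) ⟨fun x hx y => mem_iInf.2 fun L => by
    have h1 := mem_iInf.1 hx ⟨_, cp_cj h L.2 y⁻¹⟩
    rw [← cj_normalizer] at h1
    exact mem_cj_inv.1 h1⟩ (le_iInf fun L a ha =>
      (ctx_top h).cent_le_norm L.2 ⟨le_normalizer (mem_top a), hA ha⟩)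
  exact mem_iInf.1 (this.ge (mem_top g)) ⟨L, hL⟩

/-- The action on a normal component. -/
noncomputable def prHom (hN : ∀ g, g ∈ 𝐍(L)) : G →* Gam L where
  toFun := pr L
  map_one' := pr_one L
  map_mul' x y := pr_mul (hN x) (hN y)

theorem map_prHom (hN : ∀ g, g ∈ 𝐍(L)) (K : Subgroup G) : K.map (prHom hN) = im L K :=
  Subgroup.ext fun _ => (mem_im' fun g _ => hN g).symm

theorem SA.sq (h : SA A T) (hO : oOf (⊤ : Subgroup G) = ⊥)
    (hK : ∀ N : Subgroup G, N.Normal → A ≤ N → N = ⊤) (h2 : A ⊓ pCore 2 G = ⊥) :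
    ∀ a ∈ A, a * a = 1 := fun a ha => by
  have hc : ∀ L, Cp h.om ⊤ L → a * a ∈ Cent L := fun L hL => by
    have hN := norm_all h.sc_om (fun a ha => mem_centralizer_iff.2 fun b hb => h.comm b hb.1 a ha) hK hL
    have h1 := h.map (prHom hN) fun z => let ⟨x, _, e⟩ := pr_surj z; ⟨x, e⟩
    rw [map_prHom] at h1
    have hg := (ctx_top h.sc_om).gp hL
    rw [← pr_eq_one (hN _), pr_mul (hN _) (hN _)]
    exact hg.sc.sq _ (h1.le_of_gp hg (im_mono h.om_le) (pr_mem_im ha (hN a)))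
  by_contra h1
  have hz : zpowers (a * a) ≤ A := zpowers_le.2 (mul_mem ha ha)
  obtain ⟨z, hz1, hz2⟩ := exists_mem_orderOf_eq_of_ne_bot (p := 2)
    (h.syl.pgrp.to_le (hz.trans h.le)) (zpowers_ne_bot.2 h1)
  have : z ∈ A ⊓ pCore 2 G := ⟨hz hz1, mem_pCore_of_cent h.sc_om hO ⟨hz hz1, sq_of_two hz2⟩
    fun L hL => zpowers_le.2 (hc L hL) hz1⟩
  rw [h2, mem_bot] at this
  simp [this] at hz2

/-- The structure of `G` when `A` meets `O₂(G)` trivially. -/
theorem SA.base (h : SA A T) (hO : oOf (⊤ : Subgroup G) = ⊥)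
    (hK : ∀ N : Subgroup G, N.Normal → A ≤ N → N = ⊤) (h2 : A ⊓ pCore 2 G = ⊥) :
    pCore 2 G = ⊥ ∧ center G = ⊥ ∧ _root_.commutator G = ⊤ ∧ (∀ t ∈ T, t * t = 1 → t ∈ A) ∧
      A ≤ ⁅𝐍(A), A⁆ ∧ ∃ (n : ℕ) (L : Fin n → Type u) (_ : ∀ i, Group (L i)) (_ : ∀ i, Finite (L i)),
        (∀ i, IsSimpleGroup (L i) ∧ ¬ IsMulCommutative (L i) ∧ Gold (L i)) ∧
          Nonempty (G ≃* ∀ i, L i) := by
  classical
  have hs := h.sc (h.sq hO hK h2)
  have hx := ctx_top hs
  have hN : ∀ L, Cp A ⊤ L → ∀ g, g ∈ 𝐍(L) := fun L hL => norm_all hs hs.le_cent hK hL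
  have hKK : KK A ⊤ = ⊤ := hK _ (KK_normal A) (le_KK A ⊤)
  have fa : ∀ a ∈ A, (∀ L, Cp A ⊤ L → a ∈ Cent L) → a = 1 := fun a ha hc =>
    mem_bot.1 (h2 ▸ ⟨ha, mem_pCore_of_cent hs hO ha hc⟩)
  have hZ : ∀ L, Cp A ⊤ L → L ⊓ Cent L = ⊥ := fun L hL =>
    rad_bot hx hL (hN L hL) (eq_bot_iff.2 (hO ▸ hL.pc.oOf_le)) (eq_bot_iff.2 fun a ha =>
      fa a ha.1.1 fun L' hL' => by
        by_cases e : L' = L
        · exact e ▸ ha.2
        · exact hL'.pc.le_Cent_of_ne hL.pc e ha.1.2)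
  have hE : ⨆ L : {L // Cp A ⊤ L}, L.1 = ⊤ := by
    have h1 := hx.KK_le_sup
    rw [hKK, hO, bot_sup_eq] at h1
    refine eq_top_iff.2 (h1.trans (sup_le (fun a ha => ?_) le_rfl))
    obtain ⟨e, he, he'⟩ := hx.exists_prod (le_KK A ⊤) (fun L hL m hm => hx.exists_decomp hL hm) ha
    rw [eq_inv_of_mul_eq_one_left (fa _ (mul_mem ha he.1) he')]
    exact inv_mem he.2
  have inj : ∀ g : G, (∀ L, Cp A ⊤ L → g ∈ Cent L) → g = 1 := fun g hg => by
    have key : ∀ s : Finset {L // Cp A ⊤ L}, ∀ g ∈ ⨆ L ∈ s, L.1, (∀ L ∈ s, g ∈ Cent L.1) → g = 1 := by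
      intro s
      induction s using Finset.induction_on with
      | empty => simp
      | insert L s hs ih =>
        intro g hg hc
        rw [Finset.iSup_insert] at hg
        obtain ⟨l, hl, x, hx, rfl⟩ := (Core.mem_sup_of_le_normalizer fun g _ => hN _ L.2 g).1 hg
        have h0 : ⨆ L' ∈ s, L'.1 ≤ Cent L.1 := iSup₂_le fun L' hL' => L.2.pc.le_Cent_of_ne L'.2.pc
          fun e => hs (by rwa [Subtype.ext e])
        have h1 := h0 hx
        have h3 : l = 1 := mem_bot.1 ((hZ _ L.2).le (mem_inf.2 ⟨hl,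
          (Subgroup.mul_mem_cancel_right _ h1).1 (hc L (Finset.mem_insert_self _ _))⟩))
        rw [h3, one_mul] at hc ⊢
        exact ih x hx fun L' hL' => hc L' (Finset.mem_insert_of_mem hL')
    haveI := Fintype.ofFinite {L // Cp A ⊤ L}
    exact key Finset.univ g (by simp [hE]) fun L _ => hg L.1 L.2
  obtain ⟨n, ⟨c⟩⟩ := Finite.exists_equiv_fin {L // Cp A ⊤ L}
  have hc : ∀ i, Cp A ⊤ (c.symm i).1 := fun i => (c.symm i).2
  have hp : ∀ L, Cp A ⊤ L → ∀ g, pr L g ∈ im L L := fun L hL g =>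
    hx.im_KK_le hL.pc (pr_mem_im (hKK.ge (mem_top g)) (hN L hL g))
  let φ : G →* ∀ i, im (c.symm i).1 (c.symm i).1 :=
    Pi.monoidHom fun i => (prHom (hN _ (hc i))).codRestrict _ (hp _ (hc i))
  have hφ : ∀ g i, (φ g i : Gam (c.symm i).1) = pr _ g := fun g i => rfl
  have inj' : Function.Injective φ := (injective_iff_map_eq_one φ).2 fun g e => inj g fun L hL => by
    have := hφ g (c ⟨L, hL⟩)
    rw [e] at this
    simpa using (pr_eq_one (hN _ (hc _) g)).1 this.symm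
  have mm : ∀ (M : Subgroup G) (x : ∀ i, im (c.symm i).1 (c.symm i).1),
      (∀ i, ∃ m ∈ M ⊓ (c.symm i).1, pr (c.symm i).1 m = x i) → x ∈ M.map φ := fun M x k =>
    pi_mem_of_mulSingle_mem x fun i => by
      obtain ⟨m, hm, e⟩ := k i
      refine ⟨m, hm.1, funext fun j => Subtype.ext ?_⟩
      by_cases hj : j = i
      · subst hj; rw [Pi.mulSingle_eq_same]; exact e
      · rw [Pi.mulSingle_eq_of_ne hj, hφ]
        exact (pr_eq_one (hN _ (hc _) m)).2 ((hc j).pc.le_Cent_of_ne (hc i).pc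
          (fun e => hj (c.symm.injective (Subtype.ext e))) hm.2)
  have mm' : ∀ (M : Subgroup G) (g : G), (∀ L, Cp A ⊤ L → ∃ m ∈ M ⊓ L, pr L m = pr L g) → g ∈ M :=
    fun M g k => by
      obtain ⟨m, hm, e⟩ := mm M (φ g) fun i => k _ (hc i)
      exact inj' e ▸ hm
  refine ⟨eq_bot_iff.2 fun z hz => inj z fun L hL => ?_,
    eq_bot_iff.2 fun z hz => inj z fun L _ => cent_le_Cent L (mem_centralizer_iff.2 fun l _ =>
      mem_center_iff.1 hz l), eq_top_iff.2 (hE.ge.trans (iSup_le fun L => ?_)),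
    fun t ht t2 => mm' A t fun L hL => ?_, fun a ha => mm' _ a fun L hL => ?_,
    n, fun i => im (c.symm i).1 (c.symm i).1, inferInstance, inferInstance,
    fun i => ⟨(hx.gp (hc i)).simple, (hx.gp (hc i)).nab, (hx.gp (hc i)).gold⟩,
    ⟨.ofBijective φ ⟨inj', fun x => ?_⟩⟩⟩
  · haveI := (pgroup_im (L := L) (Core.pCore_isPGroup (G := G) 2)).isNilpotent
    exact (im_eq_bot fun g _ => hN L hL g).1 (hL.pc.as.solv_bot inferInstance
      (im_le_norm (fun g _ => hN L hL g) le_normalizer_of_normal)) hz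
  · rw [← L.2.pc.perf]; exact commutator_mono le_top le_top
  · have := (hx.gp hL).omega (pgroup_im h.syl.pgrp) ((im_le_iff fun g _ => hN L hL g).2
      fun g _ => hp L hL g) (im_mono h.le) (pr_mem_im ht (hN L hL t)) (pr_sq (hN L hL t) t2)
    rw [← hx.im_inf hL] at this
    exact (mem_im' fun g _ => hN L hL g).1 this
  · by_cases ha1 : pr L a = 1
    · exact ⟨1, one_mem _, by rw [pr_one, ha1]⟩
    have hg := hx.gp hL
    have m := pr_mem_im ha (hN L hL a)
    obtain ⟨X, hX, -, -, ht⟩ := hg.exists_trans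
    obtain ⟨w, hw, w1, wa⟩ := exists_third hg.four_le (pr L a)
    obtain ⟨x, hx1, e⟩ := ht w hw (pr L a * w) (mul_mem m hw) w1 fun e => wa (by
      rw [← inv_eq_of_mul_eq_one_right e, inv_of_sq (hg.sc.sq _ m)])
    have hx2 := hX hx1
    rw [← hx.im_norm hL] at hx2
    rw [← hx.im_inf hL] at hw
    obtain ⟨x, hx3, rfl⟩ := (mem_im' fun g _ => hN L hL g).1 hx2
    obtain ⟨w, hw', rfl⟩ := (mem_im' fun g _ => hN L hL g).1 hw
    refine ⟨⁅x, w⁆, ⟨commutator_mem_commutator hx3.2 hw'.1, L.mul_mem (L.mul_mem (L.mul_mem hx3.1 hw'.2)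
      (L.inv_mem hx3.1)) (L.inv_mem hw'.2)⟩, ?_⟩
    rw [commutatorElement_def, pr_comm (hN L hL x) (hN L hL w), e, mul_inv_cancel_right]
  · obtain ⟨g, -, e⟩ := mm ⊤ x fun i => by
      obtain ⟨m, hm, e⟩ := (mem_im' le_normalizer).1 (x i).2
      exact ⟨m, ⟨trivial, hm⟩, e⟩
    exact ⟨g, e⟩

theorem oOf_quot {Z : Subgroup G} [Z.Normal] (hZ : IsPGroup 2 Z) (hc : Z ≤ center G)
    (hO : pPrimeCore 2 G = ⊥) : oOf (⊤ : Subgroup (G ⧸ Z)) = ⊥ := by
  have hf := QuotientGroup.mk'_surjective Z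
  haveI : (oOf (⊤ : Subgroup (G ⧸ Z))).Normal := normal_of_norm fun g => le_normalizer_oOf ⊤ (mem_top g)
  have h1 : IsSylowIn 2 Z ((oOf ⊤).comap (QuotientGroup.mk' Z)) := isSylowIn_of_not_dvd
    (fun z hz => by rw [mem_comap, QuotientGroup.mk'_apply, (QuotientGroup.eq_one_iff z).2 hz]; simp) hZ (by
      conv => enter [1, 2, 1]; rw [← QuotientGroup.ker_mk' Z]
      rw [relIndex_ker, map_comap_eq_self_of_surjective hf]
      exact not_two_dvd (odd_oOf _))
  haveI := pResOf_normal (p := 2) ((oOf ⊤).comap (QuotientGroup.mk' Z))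
  have h2 := Core.le_pPrimeCore inferInstance (coprime_pResOf_of_burnside h1 fun g _ =>
    mem_centralizer_iff.2 fun z hz => (mem_center_iff.1 (hc hz) g).symm)
  rw [hO, le_bot_iff] at h2
  have h3 := (isPGroup_of_pResOf_eq_bot h2).map (QuotientGroup.mk' Z)
  rw [map_comap_eq_self_of_surjective hf] at h3
  rw [← inf_eq_bot_of_odd h3 (odd_oOf _), inf_idem]

/-- Goldschmidt's theorem, structural form, for a core-free group. -/
theorem SA.main (h : SA A T) (hO : pPrimeCore 2 G = ⊥)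
    (hK : ∀ N : Subgroup G, N.Normal → A ≤ N → N = ⊤) :
    pCore 2 G ⊔ _root_.commutator G = ⊤ ∧ pCore 2 G ≤ center G ∧ A = pCore 2 G ⊔ omegaOne 2 T ∧
      ∃ (n : ℕ) (L : Fin n → Type u) (_ : ∀ i, Group (L i)) (_ : ∀ i, Finite (L i)),
        (∀ i, IsSimpleGroup (L i) ∧ ¬ IsMulCommutative (L i) ∧ Gold (L i)) ∧
          Nonempty (_root_.commutator G ⧸ center (_root_.commutator G) ≃* ∀ i, L i) := by
  have hp := Core.pCore_isPGroup (G := G) 2
  have hPT : pCore 2 G ≤ T := h.syl.le_of_le_normalizer le_top hp le_normalizer_of_normal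
  obtain ⟨Z, hZ⟩ : ∃ Z, Z = A ⊓ pCore 2 G := ⟨_, rfl⟩
  have hZA : Z ≤ A := hZ ▸ inf_le_left
  have hZP : Z ≤ pCore 2 G := hZ ▸ inf_le_right
  haveI : Z.Normal := hZ ▸ ⟨fun a ha g =>
    have k := Normal.conj_mem inferInstance a ha.2 g
    ⟨h.cl a ha.1 g (hPT k), k⟩⟩
  have hc : Z ≤ center G := fun z hz => mem_center_iff.2 fun g => (mem_centralizer_iff.1
    ((hK 𝐂(Z) inferInstance fun a ha => mem_centralizer_iff.2 fun z hz => h.comm z (hZA hz) a ha).ge
      (mem_top g)) z hz).symm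
  have hf := QuotientGroup.mk'_surjective Z
  have hk : ∀ g, QuotientGroup.mk' Z g = 1 ↔ g ∈ Z := fun g => QuotientGroup.eq_one_iff g
  obtain ⟨b1, b2, b3, b4, b5, n, L, _, _, b6, ⟨e⟩⟩ := (h.map _ hf).base (oOf_quot (hp.to_le hZP) hc hO)
    (fun N hN hA => by
      rw [← map_comap_eq_self_of_surjective hf N, hK _ (hN.comap _) (map_le_iff_le_comap.1 hA),
        map_top_of_surjective _ hf]) (eq_bot_iff.2 (by
      rintro - ⟨⟨a, ha, rfl⟩, k⟩
      refine (hk a).2 (hZ ▸ ⟨ha, Core.le_pCore (N := (pCore 2 _).comap (QuotientGroup.mk' Z))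
        inferInstance ((Core.pCore_isPGroup 2).comap_of_ker_isPGroup _ ?_) k⟩)
      rw [QuotientGroup.ker_mk']; exact hp.to_le hZP))
  have hPZ : pCore 2 G = Z := le_antisymm (fun g hg => (hk g).1 (mem_bot.1 (b1.le
    (Core.le_pCore (Normal.map inferInstance _ hf) (hp.map _) (mem_map_of_mem _ hg))))) hZP
  have hm : ∀ {M : Subgroup G} {g : G}, QuotientGroup.mk' Z g ∈ M.map (QuotientGroup.mk' Z) →
      g ∈ Z ⊔ M := fun {M g} k => by
    rw [← mem_comap, comap_map_eq, QuotientGroup.ker_mk', sup_comm] at k; exact k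
  have hcm : (_root_.commutator G).map (QuotientGroup.mk' Z) = ⊤ := by
    rw [_root_.commutator, map_commutator, map_top_of_surjective _ hf]; exact b3
  rw [hPZ]
  refine ⟨eq_top_iff.2 fun g _ => hm (hcm.ge (mem_top _)), hc, le_antisymm (fun a ha => ?_)
    (sup_le hZA ((closure_le _).2 fun t ht => sup_le hZA le_rfl (hm (b4 _ (mem_map_of_mem _ ht.1)
      (by rw [← map_mul, ← pow_two, ht.2, map_one]))))), n, L, inferInstance, inferInstance, b6, ?_⟩
  · have h1 : 𝐍(A.map (QuotientGroup.mk' Z)) ≤ 𝐍(A).map (QuotientGroup.mk' Z) := fun x hx => by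
      obtain ⟨g, rfl⟩ := hf x
      refine mem_map_of_mem _ (mem_normalizer_fintype fun b hb => sup_le hZA le_rfl (hm ?_))
      rw [map_mul, map_mul, map_inv]
      exact conj_mem_of_mem_normalizer hx (mem_map_of_mem _ hb)
    have h3 := commutator_mono h1 le_rfl (b5 (mem_map_of_mem _ ha))
    rw [← map_commutator] at h3
    refine sup_le_sup_left (Subgroup.commutator_le.2 fun g hg b hb => subset_closure ?_) Z (hm h3)
    have h4 := conj_mem_of_mem_normalizer hg hb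
    refine ⟨h.le (A.mul_mem h4 (A.inv_mem hb)), ?_⟩
    have h5 : b * b ∈ Z := (hk _).1 (by
      rw [map_mul]
      exact (h.map _ hf).sq (oOf_quot (hp.to_le hZP) hc hO) (fun N hN hA => by
        rw [← map_comap_eq_self_of_surjective hf N, hK _ (hN.comap _) (map_le_iff_le_comap.1 hA),
          map_top_of_surjective _ hf]) (by rw [b1, inf_bot_eq]) _ (mem_map_of_mem _ hb))
    have h6 := h.comm _ h4 _ (inv_mem hb)
    rw [commutatorElement_def, pow_two, mul_assoc _ b⁻¹, ← mul_assoc b⁻¹, ← h6]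
    calc _ = g * (b * b) * g⁻¹ * (b * b)⁻¹ := by group
      _ = 1 := by rw [mem_center_iff.1 (hc h5) g]; group
  · let ψ := (QuotientGroup.mk' Z).comp (_root_.commutator G).subtype
    have hψ : Function.Surjective ψ := fun x => by
      obtain ⟨g, hg, rfl⟩ := hcm.ge (mem_top x)
      exact ⟨⟨g, hg⟩, rfl⟩
    have hker : center (_root_.commutator G) = ψ.ker := le_antisymm (fun z hz => mem_bot.1 (b2.le
      (mem_center_iff.2 fun x => by
        obtain ⟨g, rfl⟩ := hψ x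
        rw [← map_mul, mem_center_iff.1 hz g, map_mul]))) fun z hz => mem_center_iff.2 fun g =>
      Subtype.ext (mem_center_iff.1 (hc ((hk _).1 hz)) g)
    exact ⟨((QuotientGroup.quotientMulEquivOfEq hker).trans
      (QuotientGroup.quotientKerEquivOfSurjective ψ hψ)).trans e⟩

end Cfsg.Agent.GsD
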